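/-
Linear maps whose square is a scalar, up to similarity, and conjugacy in GL modulo the centre.
-/
import Mathlib

set_option autoImplicit false
set_option linter.unusedSectionVars false

namespace Cfsg.Agent.PGLInvol

open Module

variable {F : Type*} [Field F] {V : Type*} [AddCommGroup V] [Module F V] [FiniteDimensional F V]

theorem isCompl_eigen (h2 : (2 : F) ≠ 0) {a : Module.End F V} (ha : a * a = 1) :
    IsCompl (LinearMap.ker (a + 1)) (LinearMap.ker (a - 1)) := by
  have ha' : ∀ v, a (a v) = v := fun v => by rw [← Module.End.mul_apply, ha, Module.End.one_apply]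
  constructor
  · rw [Submodule.disjoint_def]
    intro x hx hx'
    simp only [LinearMap.mem_ker, LinearMap.add_apply, LinearMap.sub_apply, Module.End.one_apply] at hx hx'
    have h : (2 : F) • x = 0 := by
      rw [two_smul]
      calc x + x = (a x + x) - (a x - x) := by abel
        _ = 0 := by rw [hx, hx', sub_zero]
    exact (smul_eq_zero.1 h).resolve_left h2
  · rw [codisjoint_iff, eq_top_iff]
    intro v _
    refine Submodule.mem_sup.2 ⟨(2 : F)⁻¹ • (v - a v), ?_, (2 : F)⁻¹ • (v + a v), ?_, ?_⟩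
    · simp only [LinearMap.mem_ker, LinearMap.add_apply, Module.End.one_apply, map_smul, map_sub, ha']
      refine smul_eq_zero.2 (Or.inr ?_)
      abel
    · simp only [LinearMap.mem_ker, LinearMap.sub_apply, Module.End.one_apply, map_smul, map_add, ha']
      refine smul_eq_zero.2 (Or.inr ?_)
      abel
    · rw [← smul_add, show v - a v + (v + a v) = (2 : F) • v by rw [two_smul]; abel, smul_smul,
        inv_mul_cancel₀ h2, one_smul]

theorem finrank_neg (h2 : (2 : F) ≠ 0) {a : Module.End F V} (ha : a * a = 1) :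
    finrank F (LinearMap.ker (-a + 1)) + finrank F (LinearMap.ker (a + 1)) = finrank F V := by
  rw [show -a + 1 = -(a - 1) by abel, add_comm]
  rw [show LinearMap.ker (-(a - 1)) = LinearMap.ker (a - 1) by ext x; rw [LinearMap.mem_ker, LinearMap.mem_ker, LinearMap.neg_apply, neg_eq_zero]]
  exact Submodule.finrank_add_eq_of_isCompl (isCompl_eigen h2 ha)

theorem eq_one_of_ker_eq_bot {a : Module.End F V} (ha : a * a = 1)
    (h : finrank F (LinearMap.ker (a + 1)) = 0) : a = 1 := by
  rw [Submodule.finrank_eq_zero] at h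
  refine LinearMap.ext fun v => sub_eq_zero.1 ?_
  rw [← Submodule.mem_bot (R := F), ← h, LinearMap.mem_ker]
  simp only [LinearMap.add_apply, Module.End.one_apply, map_sub]
  rw [← Module.End.mul_apply, ha, Module.End.one_apply]
  abel

/-- Involutions with eigenspaces of equal dimension are similar. -/
theorem exists_equiv_invol (h2 : (2 : F) ≠ 0) {a b : Module.End F V} (ha : a * a = 1) (hb : b * b = 1)
    (h : finrank F (LinearMap.ker (a + 1)) = finrank F (LinearMap.ker (b + 1))) :
    ∃ L : V ≃ₗ[F] V, ∀ v, L (a v) = b (L v) := by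
  have h' : finrank F (LinearMap.ker (a - 1)) = finrank F (LinearMap.ker (b - 1)) := by
    have h1 := Submodule.finrank_add_eq_of_isCompl (isCompl_eigen h2 ha)
    have h3 := Submodule.finrank_add_eq_of_isCompl (isCompl_eigen h2 hb)
    omega
  let e₁ := LinearEquiv.ofFinrankEq _ _ h
  let e₂ := LinearEquiv.ofFinrankEq _ _ h'
  let Pa := Submodule.prodEquivOfIsCompl _ _ (isCompl_eigen h2 ha)
  let Pb := Submodule.prodEquivOfIsCompl _ _ (isCompl_eigen h2 hb)
  refine ⟨Pa.symm.trans ((e₁.prodCongr e₂).trans Pb), fun v => ?_⟩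
  obtain ⟨⟨x, y⟩, rfl⟩ := Pa.surjective v
  have hneg : ∀ {c : Module.End F V} (z : LinearMap.ker (c + 1)), c (z : V) = -(z : V) := fun {c} z => by
    have := z.2
    rwa [LinearMap.mem_ker, LinearMap.add_apply, Module.End.one_apply, add_eq_zero_iff_eq_neg] at this
  have hpos : ∀ {c : Module.End F V} (z : LinearMap.ker (c - 1)), c (z : V) = (z : V) := fun {c} z => by
    have := z.2
    rwa [LinearMap.mem_ker, LinearMap.sub_apply, Module.End.one_apply, sub_eq_zero] at this
  have h1 : a (Pa (x, y)) = Pa (-x, y) := by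
    simp [Pa, Submodule.coe_prodEquivOfIsCompl', map_add, hneg x, hpos y]
  rw [h1]
  simp only [LinearEquiv.trans_apply, LinearEquiv.symm_apply_apply, LinearEquiv.prodCongr_apply, map_neg]
  simp [Pb, Submodule.coe_prodEquivOfIsCompl', map_add, hneg (e₁ x), hpos (e₂ y)]

/-- When `a * a` is a non-square scalar, `V` is `U ⊕ a U`. -/
theorem exists_half {μ : F} (hμ : ¬ IsSquare μ) {a : Module.End F V}
    (ha : ∀ v, a (a v) = μ • v) :
    ∃ U : Submodule F V, Function.Bijective fun p : U × U => (p.1 : V) + a (p.2 : V) := by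
  classical
  let good : Submodule F V → Prop := fun U => ∀ u ∈ U, ∀ u' ∈ U, u = a u' → u = 0
  obtain ⟨U, hU, hmax⟩ := wellFounded_gt.has_min {U : Submodule F V | good U}
    ⟨⊥, fun u hu _ _ _ => (Submodule.mem_bot F).1 hu⟩
  have ha0 : ∀ v, a v = 0 → v = 0 := fun v hv => by
    have h := ha v
    rw [hv, map_zero] at h
    exact (smul_eq_zero.1 h.symm).resolve_left fun e => hμ (e ▸ IsSquare.zero)
  refine ⟨U, ?_, fun v => ?_⟩
  · rintro ⟨x, y⟩ ⟨x', y'⟩ h
    have h1 : ((x - x' : U) : V) = a ((y' - y : U) : V) := by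
      rw [Submodule.coe_sub, Submodule.coe_sub, map_sub]
      exact sub_eq_sub_iff_add_eq_add.2 (h.trans (add_comm _ _))
    have hx := hU _ (x - x').2 _ (y' - y).2 h1
    have hy : ((y' - y : U) : V) = 0 := ha0 _ (h1.symm.trans hx)
    rw [Submodule.coe_sub, sub_eq_zero] at hx hy
    exact Prod.ext (Subtype.ext hx) (Subtype.ext hy.symm)
  · by_contra hv
    have hW : ∀ (x y : U) (c d : F), (c • v + d • a v = (x : V) + a (y : V)) → c = 0 ∧ d = 0 := by
      intro x y c d h
      by_contra hcd
      have hne : c ^ 2 - d ^ 2 * μ ≠ 0 := by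
        intro h0
        rcases eq_or_ne d 0 with rfl | hd
        · exact hcd ⟨by simpa using h0, rfl⟩
        · exact hμ ⟨c / d, by field_simp; linear_combination -h0⟩
      have h2 := congrArg a h
      simp only [map_add, map_smul, ha] at h2
      refine hv ⟨((c ^ 2 - d ^ 2 * μ)⁻¹ • (c • x - (d * μ) • y), (c ^ 2 - d ^ 2 * μ)⁻¹ • (c • y - d • x)), ?_⟩
      have h3 : (c ^ 2 - d ^ 2 * μ) • v = c • ((x : V) + a (y : V)) - d • (a (x : V) + μ • (y : V)) := by
        rw [← h, ← h2]
        module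
      show ((_ : U) : V) + a ((_ : U) : V) = v
      refine (smul_right_injective V hne).eq_iff.1 ?_
      simp only [Submodule.coe_smul, Submodule.coe_sub, map_smul, map_sub, smul_add, smul_smul,
        mul_inv_cancel₀ hne, one_smul, h3]
      module
    refine hmax (U ⊔ Submodule.span F {v}) ?_ (lt_of_le_of_ne le_sup_left fun e => ?_)
    · intro u hu u' hu' he
      obtain ⟨x, hx, w, hw, rfl⟩ := Submodule.mem_sup.1 hu
      obtain ⟨c, rfl⟩ := Submodule.mem_span_singleton.1 hw
      obtain ⟨y, hy, w', hw', rfl⟩ := Submodule.mem_sup.1 hu'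
      obtain ⟨d, rfl⟩ := Submodule.mem_span_singleton.1 hw'
      rw [map_add, map_smul] at he
      obtain ⟨hc, hd⟩ := hW (-⟨x, hx⟩) ⟨y, hy⟩ c (-d) (by
        rw [Submodule.coe_neg, neg_smul, ← sub_eq_add_neg, sub_eq_iff_eq_add,
          show (-x + a y + d • a v : V) = -x + (a y + d • a v) by abel, ← he]
        abel)
      rw [neg_eq_zero] at hd
      subst hc hd
      rw [zero_smul, add_zero] at he ⊢
      rw [zero_smul, add_zero] at he
      exact hU x hx y hy he
    · refine hv ⟨(⟨v, ?_⟩, 0), by simp⟩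
      rw [e]
      exact Submodule.mem_sup_right (Submodule.mem_span_singleton_self v)

/-- Maps with the same non-square scalar square are similar. -/
theorem exists_equiv_nonsquare {μ : F} (hμ : ¬ IsSquare μ) {a b : Module.End F V}
    (ha : ∀ v, a (a v) = μ • v) (hb : ∀ v, b (b v) = μ • v) :
    ∃ L : V ≃ₗ[F] V, ∀ v, L (a v) = b (L v) := by
  obtain ⟨U, hU⟩ := exists_half hμ ha
  obtain ⟨U', hU'⟩ := exists_half hμ hb
  let Φ : (U × U) ≃ₗ[F] V :=
    LinearEquiv.ofBijective (U.subtype.coprod (a ∘ₗ U.subtype)) hU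
  let Φ' : (U' × U') ≃ₗ[F] V :=
    LinearEquiv.ofBijective (U'.subtype.coprod (b ∘ₗ U'.subtype)) hU'
  have hd : finrank F U = finrank F U' := by
    have h1 := Φ.finrank_eq
    have h3 := Φ'.finrank_eq
    rw [Module.finrank_prod] at h1 h3
    omega
  let e := LinearEquiv.ofFinrankEq U U' hd
  refine ⟨Φ.symm.trans ((e.prodCongr e).trans Φ'), fun v => ?_⟩
  obtain ⟨⟨x, y⟩, rfl⟩ := Φ.surjective v
  have h1 : a (Φ (x, y)) = Φ (μ • y, x) := by
    show a ((x : V) + a (y : V)) = ((μ • y : U) : V) + a (x : V)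
    rw [map_add, ha, Submodule.coe_smul, add_comm]
  rw [h1]
  simp only [LinearEquiv.trans_apply, LinearEquiv.symm_apply_apply, LinearEquiv.prodCongr_apply, map_smul]
  show ((μ • e y : U') : V) + b (e x : V) = b ((e x : V) + b (e y : V))
  rw [map_add, hb, Submodule.coe_smul, add_comm]

theorem even_finrank_nonsquare {μ : F} (hμ : ¬ IsSquare μ) {a : Module.End F V}
    (ha : ∀ v, a (a v) = μ • v) : Even (finrank F V) := by
  obtain ⟨U, hU⟩ := exists_half hμ ha
  rw [← (LinearEquiv.ofBijective (U.subtype.coprod (a ∘ₗ U.subtype)) hU).finrank_eq, Module.finrank_prod]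
  exact ⟨_, rfl⟩

/-! ### Conjugacy modulo the centre -/

variable {n : ℕ}

/-- The endomorphism of a matrix unit. -/
noncomputable def op (g : GL (Fin n) F) : Module.End F (Fin n → F) :=
  Matrix.toLinAlgEquiv' (g : Matrix (Fin n) (Fin n) F)

theorem op_mul (g h : GL (Fin n) F) : op (g * h) = op g * op h := by
  rw [op, Units.val_mul, map_mul]; rfl

theorem op_injective : Function.Injective (op (F := F) (n := n)) := fun _ _ h =>
  Units.ext (Matrix.toLinAlgEquiv'.injective h)

theorem op_one : op (1 : GL (Fin n) F) = 1 := by rw [op, Units.val_one, map_one]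

theorem op_scalar (c : Fˣ) (v : Fin n → F) : op (Matrix.GeneralLinearGroup.scalar (Fin n) c) v = (c : F) • v := by
  show Matrix.toLinAlgEquiv' (Matrix.scalar (Fin n) (c : F)) v = _
  ext i
  simp [Matrix.scalar_apply, Matrix.mulVec_diagonal]

theorem mk_eq_iff {g h : GL (Fin n) F} :
    (g : GL (Fin n) F ⧸ Subgroup.center (GL (Fin n) F)) = h ↔
      ∃ c : Fˣ, ∀ v, op h v = (c : F) • op g v := by
  rw [QuotientGroup.eq, Matrix.GeneralLinearGroup.center_eq_range_scalar, MonoidHom.mem_range]
  constructor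
  · rintro ⟨c, hc⟩
    refine ⟨c, fun v => ?_⟩
    rw [show h = g * Matrix.GeneralLinearGroup.scalar (Fin n) c by rw [hc, mul_inv_cancel_left], op_mul,
      Module.End.mul_apply, op_scalar, map_smul]
  · rintro ⟨c, hc⟩
    refine ⟨c, eq_inv_mul_iff_mul_eq.2 (op_injective (LinearMap.ext fun v => ?_))⟩
    rw [op_mul, Module.End.mul_apply, op_scalar, map_smul, hc]

theorem isConj_mk_iff {g h : GL (Fin n) F} :
    IsConj (g : GL (Fin n) F ⧸ Subgroup.center (GL (Fin n) F)) (h : GL (Fin n) F ⧸ _) ↔
      ∃ (L : (Fin n → F) ≃ₗ[F] (Fin n → F)) (c : Fˣ), ∀ v, L (op g v) = (c : F) • op h (L v) := by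
  rw [isConj_iff]
  constructor
  · rintro ⟨x, hx⟩
    obtain ⟨x, rfl⟩ := QuotientGroup.mk_surjective x
    rw [mul_inv_eq_iff_eq_mul, ← QuotientGroup.mk_mul, ← QuotientGroup.mk_mul, eq_comm, mk_eq_iff] at hx
    obtain ⟨c, hc⟩ := hx
    refine ⟨LinearMap.GeneralLinearGroup.generalLinearEquiv F _
      (Units.map (Matrix.toLinAlgEquiv' (R := F) (n := Fin n)).toRingEquiv.toMonoidHom x), c, fun v => ?_⟩
    have h1 := hc v
    rw [op_mul, op_mul] at h1
    exact h1
  · rintro ⟨L, c, hL⟩
    let x : GL (Fin n) F :=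
      ⟨Matrix.toLinAlgEquiv'.symm (L : Module.End F (Fin n → F)),
        Matrix.toLinAlgEquiv'.symm (L.symm : Module.End F (Fin n → F)),
        by rw [← map_mul, ← map_one (Matrix.toLinAlgEquiv' (R := F) (n := Fin n)).symm]
           exact congrArg _ (LinearMap.ext fun v => L.apply_symm_apply v),
        by rw [← map_mul, ← map_one (Matrix.toLinAlgEquiv' (R := F) (n := Fin n)).symm]
           exact congrArg _ (LinearMap.ext fun v => L.symm_apply_apply v)⟩
    have hx : ∀ v, op x v = L v := fun v => by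
      rw [op]
      simp only [x, AlgEquiv.apply_symm_apply]
      rfl
    refine ⟨(x : GL (Fin n) F ⧸ _), ?_⟩
    rw [mul_inv_eq_iff_eq_mul, ← QuotientGroup.mk_mul, ← QuotientGroup.mk_mul, eq_comm, mk_eq_iff]
    refine ⟨c, fun v => ?_⟩
    rw [op_mul, op_mul, Module.End.mul_apply, Module.End.mul_apply, hx, hx, hL]

end Cfsg.Agent.PGLInvol
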